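import Groth.Agent.Lib.AlgSpStalk.Stalks
import Groth.Agent.Lib.AlgSpMor.LocP

/-!
# The centre of a point of the small etale topos of an algebraic space
-/

set_option autoImplicit false
set_option backward.isDefEq.respectTransparency false
universe u

open CategoryTheory CategoryTheory.Limits AlgebraicGeometry Opposite AlgSp TopologicalSpace

namespace Groth.Agent.Lib.AlgSpTopos

variable {S : Scheme.{u}} {X : Sp S}

/-- An open subscheme of an object of the small etale site. -/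
noncomputable def openObj (E : EtOver X) (O : E.obj.left.left.Opens) : EtOver X :=
  EtOver.mk ((yon S).map (Over.homMk O.ι rfl : Over.mk (O.ι ≫ E.obj.left.hom) ⟶ E.obj.left) ≫ E.obj.hom)
    (haveI : Etale (Over.homMk O.ι rfl : Over.mk (O.ι ≫ E.obj.left.hom) ⟶ E.obj.left).left :=
      inferInstanceAs (Etale O.ι)
     AlgSpMor.LocP.repWith_etale_comp _ E.property)

/-- The inclusion of an open subscheme. -/
noncomputable def openHom (E : EtOver X) (O : E.obj.left.left.Opens) : openObj E O ⟶ E :=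
  EtOver.homMk (Over.homMk O.ι rfl) rfl

theorem range_openHom (E : EtOver X) (O : E.obj.left.left.Opens) :
    Set.range (openHom E O).hom.left.left = (O : Set E.obj.left.left) :=
  O.range_ι

theorem range_pullbackSnd {E₁ E₂ E₀ : EtOver X} (g₁ : E₁ ⟶ E₀) (g₂ : E₂ ⟶ E₀) :
    Set.range (EtOver.pullbackSnd g₁ g₂).hom.left.left =
      g₂.hom.left.left ⁻¹' Set.range g₁.hom.left.left := by
  ext y
  have sq := (IsPullback.of_hasPullback g₁.hom.left g₂.hom.left).map (Over.forget S)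
  constructor
  · rintro ⟨z, rfl⟩
    exact ⟨(pullback.fst g₁.hom.left g₂.hom.left).left z,
      congrArg (fun m => m.left z) (pullback.condition (f := g₁.hom.left) (g := g₂.hom.left))⟩
  · rintro ⟨x, hx⟩
    obtain ⟨z, -, hz⟩ := Scheme.exists_preimage_of_isPullback sq x y hx
    exact ⟨z, hz⟩

theorem range_pullbackFst {E₁ E₂ E₀ : EtOver X} (g₁ : E₁ ⟶ E₀) (g₂ : E₂ ⟶ E₀) :
    Set.range (EtOver.pullbackFst g₁ g₂).hom.left.left =
      g₁.hom.left.left ⁻¹' Set.range g₂.hom.left.left := by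
  ext x
  have sq := (IsPullback.of_hasPullback g₁.hom.left g₂.hom.left).map (Over.forget S)
  constructor
  · rintro ⟨z, rfl⟩
    exact ⟨(pullback.snd g₁.hom.left g₂.hom.left).left z,
      (congrArg (fun m => m.left z) (pullback.condition (f := g₁.hom.left) (g := g₂.hom.left))).symm⟩
  · rintro ⟨y, hy⟩
    obtain ⟨z, hz, -⟩ := Scheme.exists_preimage_of_isPullback sq x y hy.symm
    exact ⟨z, hz⟩

variable (P : GrothendieckTopology.Point.{u} (etTop X))

/-- The element `x` lifts into the set `O`. -/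
def LiftsInto {E : EtOver X} (x : P.fiber.obj E) (O : Set E.obj.left.left) : Prop :=
  ∃ (Z : EtOver X) (z : P.fiber.obj Z) (g : Z ⟶ E), P.fiber.map g z = x ∧
    Set.range g.hom.left.left ⊆ O

variable {P}

theorem liftsInto_univ {E : EtOver X} (x : P.fiber.obj E) : LiftsInto P x Set.univ :=
  ⟨E, x, 𝟙 E, by simp, Set.subset_univ _⟩

theorem LiftsInto.mono {E : EtOver X} {x : P.fiber.obj E} {O O' : Set E.obj.left.left}
    (h : LiftsInto P x O) (hle : O ⊆ O') : LiftsInto P x O' := by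
  obtain ⟨Z, z, g, hg, hr⟩ := h
  exact ⟨Z, z, g, hg, hr.trans hle⟩

theorem LiftsInto.inter {E : EtOver X} {x : P.fiber.obj E} {O O' : Set E.obj.left.left}
    (h : LiftsInto P x O) (h' : LiftsInto P x O') : LiftsInto P x (O ∩ O') := by
  obtain ⟨Z, z, g, hg, hr⟩ := h
  obtain ⟨Z', z', g', hg', hr'⟩ := h'
  obtain ⟨⟨A, a⟩, p, p', -⟩ := IsCofilteredOrEmpty.cone_objs (P.fiber.elementsMk Z z) (P.fiber.elementsMk Z' z')
  let u : P.fiber.elementsMk A a ⟶ P.fiber.elementsMk E x :=
    CategoryOfElements.homMk _ _ (p.1 ≫ g) (by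
      rw [Functor.map_comp_apply]; exact (congrArg _ p.2).trans hg)
  let v : P.fiber.elementsMk A a ⟶ P.fiber.elementsMk E x :=
    CategoryOfElements.homMk _ _ (p'.1 ≫ g') (by
      rw [Functor.map_comp_apply]; exact (congrArg _ p'.2).trans hg')
  obtain ⟨⟨B, b⟩, e, he⟩ := IsCofilteredOrEmpty.cone_maps u v
  refine ⟨B, b, e.1 ≫ p.1 ≫ g, ?_, ?_⟩
  · rw [Functor.map_comp_apply, Functor.map_comp_apply]
    exact (congrArg _ ((congrArg _ e.2).trans p.2)).trans hg
  · rintro _ ⟨y, rfl⟩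
    refine ⟨hr ⟨p.1.hom.left.left (e.1.hom.left.left y), rfl⟩, ?_⟩
    have he' : e.1 ≫ p.1 ≫ g = e.1 ≫ p'.1 ≫ g' := congrArg Subtype.val he
    rw [he']
    exact hr' ⟨p'.1.hom.left.left (e.1.hom.left.left y), rfl⟩

theorem exists_lift_of_cover {E : EtOver X} (x : P.fiber.obj E) {ι : Type*} (V : ι → EtOver X)
    (f : ∀ i, V i ⟶ E) (h : ∀ e : ↥E.obj.left.left, ∃ i, e ∈ Set.range (f i).hom.left.left) :
    ∃ i, ∃ v : P.fiber.obj (V i), P.fiber.map (f i) v = x := by
  have hc : Sieve.ofArrows V f ∈ etTop X E :=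
    ofArrows_mem_etTop V f h
  obtain ⟨W, m, ⟨i, l, rfl⟩, w, hw⟩ :=
    (show ∃ (W : EtOver X) (m : W ⟶ E) (_ : ∃ i l, m = l ≫ f i) (w : P.fiber.obj W),
      P.fiber.map m w = x by
      obtain ⟨W, m, hm, w, hw⟩ := P.jointly_surjective _ hc x
      obtain ⟨W', l, m', hm', rfl⟩ := hm
      obtain ⟨i⟩ := hm'
      exact ⟨W, _, ⟨i, l, rfl⟩, w, hw⟩)
  exact ⟨i, P.fiber.map l w, by rwa [Functor.map_comp_apply] at hw⟩

/-- The open sets into which an element lifts are exactly the neighbourhoods of one point. -/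
theorem existsUnique_centre {E : EtOver X} (x : P.fiber.obj E) :
    ∃ c : ↥E.obj.left.left, ∀ O : E.obj.left.left.Opens,
      LiftsInto P x (O : Set E.obj.left.left) ↔ c ∈ O := by
  let T : Set E.obj.left.left :=
    ⋃ O ∈ {O : E.obj.left.left.Opens | ¬ LiftsInto P x (O : Set E.obj.left.left)}, (O : Set _)
  have hTo : IsOpen T := isOpen_biUnion fun O _ => O.2
  have hT : ¬ LiftsInto P x T := by
    rintro ⟨Z, z, g, hg, hr⟩
    let ι := {O : E.obj.left.left.Opens // ¬ LiftsInto P x (O : Set E.obj.left.left)}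
    obtain ⟨⟨O, hO⟩, v, hv⟩ := exists_lift_of_cover z
      (fun O : ι => EtOver.pullbackObj (openHom E O.1) g)
      (fun O : ι => EtOver.pullbackSnd (openHom E O.1) g) (fun e => by
        obtain ⟨O, hO, he⟩ := Set.mem_iUnion₂.1 (hr ⟨e, rfl⟩)
        refine ⟨⟨O, hO⟩, ?_⟩
        rw [range_pullbackSnd, range_openHom]
        exact he)
    refine hO ⟨_, v, EtOver.pullbackSnd (openHom E O) g ≫ g, ?_, ?_⟩
    · rw [Functor.map_comp_apply, hv, hg]
    · rintro _ ⟨y, rfl⟩
      have h : (EtOver.pullbackSnd (openHom E O) g).hom.left.left y ∈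
          Set.range (EtOver.pullbackSnd (openHom E O) g).hom.left.left := ⟨y, rfl⟩
      rw [range_pullbackSnd, range_openHom] at h
      exact h
  have hC : IsIrreducible Tᶜ := by
    refine ⟨?_, fun U V hU hV ⟨a, ha, haU⟩ ⟨b, hb, hbV⟩ => ?_⟩
    · rw [Set.nonempty_compl]
      exact fun h => hT (h ▸ liftsInto_univ x)
    · by_contra hn
      have h1 : LiftsInto P x U := by
        by_contra h
        exact ha (Set.mem_iUnion₂.2 ⟨⟨U, hU⟩, h, haU⟩)
      have h2 : LiftsInto P x V := by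
        by_contra h
        exact hb (Set.mem_iUnion₂.2 ⟨⟨V, hV⟩, h, hbV⟩)
      exact hT ((h1.inter h2).mono fun y hy => by_contra fun hy' => hn ⟨y, hy', hy⟩)
  refine ⟨hC.genericPoint, fun O => ⟨fun h => ?_, fun h => ?_⟩⟩
  · by_contra hc
    refine hT (h.mono fun y hy => by_contra fun hy' => hc ?_)
    have hg := hC.isGenericPoint_genericPoint hTo.isClosed_compl
    exact (hg.specializes hy').mem_open O.2 hy
  · by_contra hc
    have hg := hC.isGenericPoint_genericPoint hTo.isClosed_compl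
    exact hg.mem (Set.mem_iUnion₂.2 ⟨O, hc, h⟩)

variable (P) in
/-- The point of `E` at which an element is centred. -/
noncomputable def centre {E : EtOver X} (x : P.fiber.obj E) : ↥E.obj.left.left :=
  (existsUnique_centre x).choose

theorem liftsInto_iff {E : EtOver X} (x : P.fiber.obj E) (O : E.obj.left.left.Opens) :
    LiftsInto P x (O : Set E.obj.left.left) ↔ centre P x ∈ O :=
  (existsUnique_centre x).choose_spec O

theorem exists_lift_of_centre_mem {E V : EtOver X} (f : V ⟶ E) (x : P.fiber.obj E)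
    (h : centre P x ∈ Set.range f.hom.left.left) : ∃ v, P.fiber.map f v = x := by
  haveI := EtOver.etale_left f
  obtain ⟨Z, z, g, hg, hr⟩ := (liftsInto_iff x ⟨_, f.hom.left.left.isOpenMap.isOpen_range⟩).2 h
  obtain ⟨-, w, hw⟩ := exists_lift_of_cover z (fun _ : Unit => EtOver.pullbackObj f g)
    (fun _ => EtOver.pullbackSnd f g) (fun e => ⟨⟨⟩, by
      rw [range_pullbackSnd]
      exact hr ⟨e, rfl⟩⟩)
  refine ⟨P.fiber.map (EtOver.pullbackFst f g) w, ?_⟩
  rw [← Functor.map_comp_apply, EtOver.pullback_condition, Functor.map_comp_apply, hw, hg]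

theorem centre_map {E E' : EtOver X} (f : E ⟶ E') (x : P.fiber.obj E) :
    centre P (P.fiber.map f x) = f.hom.left.left (centre P x) := by
  refine (Inseparable.eq (inseparable_iff_forall_isOpen.2 fun O hO => ?_))
  refine ((liftsInto_iff _ ⟨O, hO⟩).symm.trans ⟨?_, ?_⟩ : centre P (P.fiber.map f x) ∈ O ↔ _)
  · rintro ⟨Z, z, g, hg, hr⟩
    obtain ⟨⟨A, a⟩, p, q, -⟩ := IsCofilteredOrEmpty.cone_objs (P.fiber.elementsMk E x) (P.fiber.elementsMk Z z)
    let u : P.fiber.elementsMk A a ⟶ P.fiber.elementsMk E' (P.fiber.map f x) :=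
      CategoryOfElements.homMk _ _ (p.1 ≫ f) (by
        rw [Functor.map_comp_apply]; exact congrArg _ p.2)
    let v : P.fiber.elementsMk A a ⟶ P.fiber.elementsMk E' (P.fiber.map f x) :=
      CategoryOfElements.homMk _ _ (q.1 ≫ g) (by
        rw [Functor.map_comp_apply]; exact (congrArg _ q.2).trans hg)
    obtain ⟨⟨B, b⟩, e, he⟩ := IsCofilteredOrEmpty.cone_maps u v
    have he' : e.1 ≫ p.1 ≫ f = e.1 ≫ q.1 ≫ g := congrArg Subtype.val he
    refine (liftsInto_iff x ⟨f.hom.left.left ⁻¹' O, hO.preimage f.hom.left.left.continuous⟩).1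
      ⟨B, b, e.1 ≫ p.1, ?_, ?_⟩
    · rw [Functor.map_comp_apply]
      exact (congrArg _ e.2).trans p.2
    · rintro _ ⟨y, rfl⟩
      show (e.1 ≫ p.1 ≫ f).hom.left.left y ∈ O
      rw [he']
      exact hr ⟨q.1.hom.left.left (e.1.hom.left.left y), rfl⟩
  · intro h
    obtain ⟨Z, z, g, hg, hr⟩ :=
      (liftsInto_iff x ⟨f.hom.left.left ⁻¹' O, hO.preimage f.hom.left.left.continuous⟩).2 h
    refine ⟨Z, z, g ≫ f, ?_, ?_⟩
    · rw [Functor.map_comp_apply, hg]
    · rintro _ ⟨y, rfl⟩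
      exact hr ⟨y, rfl⟩

theorem exists_affine_element {E : EtOver X} (x : P.fiber.obj E) :
    ∃ (V : EtOver X) (v : P.fiber.obj V) (f : V ⟶ E), IsAffine V.obj.left.left ∧
      P.fiber.map f v = x := by
  obtain ⟨O, hO, hcO, -⟩ :=
    exists_isAffineOpen_mem_and_subset (X := E.obj.left.left) (U := ⊤) (x := centre P x) trivial
  obtain ⟨v, hv⟩ := exists_lift_of_centre_mem (openHom E O) x (by rwa [range_openHom])
  exact ⟨_, v, openHom E O, hO, hv⟩

end Groth.Agent.Lib.AlgSpTopos
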