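import Groth.Agent.Lib.AlgSpTopos.Centre
import Mathlib.CategoryTheory.CofilteredSystem
import Mathlib.CategoryTheory.Filtered.Final
import Mathlib.AlgebraicGeometry.Morphisms.QuasiFinite
import Mathlib.AlgebraicGeometry.Morphisms.FlatMono
import Groth.Agent.Lib.AlgSpace.Props

/-!
# Points of the small etale topos of an algebraic space are geometric points
-/

set_option autoImplicit false
set_option backward.isDefEq.respectTransparency false
universe u

open CategoryTheory CategoryTheory.Limits AlgebraicGeometry Opposite AlgSp TopologicalSpace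
open Groth.Agent.Lib.AlgSpStalk.Lifts Groth.Agent.Lib.AlgSpStalk.Point

namespace Groth.Agent.Lib.AlgSpTopos

/-- Sections of an etale separated morphism over the spectrum of a field are determined by their point. -/
theorem finite_sections {K : Type u} [Field K] {W : Scheme.{u}} (h : W ⟶ Spec (CommRingCat.of K))
    [Etale h] [QuasiCompact h] :
    Finite {s : Spec (CommRingCat.of K) ⟶ W // s ≫ h = 𝟙 _} := by
  have : Finite ↥W := by
    haveI := AlgSpace.locallyQuasiFinite_of_etale h
    have hf := h.finite_preimage_singleton (IsLocalRing.closedPoint K)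
    have : h ⁻¹' {IsLocalRing.closedPoint K} = Set.univ :=
      Set.eq_univ_of_forall fun w => @Subsingleton.elim (↥(Spec (CommRingCat.of K))) inferInstance _ _
    rw [this] at hf
    exact Set.finite_univ_iff.1 hf
  refine Finite.of_injective (fun s => s.1 (IsLocalRing.closedPoint K)) fun s t hst => Subtype.ext ?_
  haveI : IsOpenImmersion s.1 := by
    haveI : Etale (s.1 ≫ h) := by rw [s.2]; infer_instance
    haveI : Etale s.1 := Etale.of_comp s.1 h
    haveI : Mono (s.1 ≫ h) := by rw [s.2]; infer_instance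
    haveI : Mono s.1 := mono_of_mono s.1 h
    exact IsOpenImmersion.of_flat_of_mono s.1
  have hr : Set.range t.1 ⊆ Set.range s.1 := by
    rintro _ ⟨y, rfl⟩
    refine ⟨IsLocalRing.closedPoint K, ?_⟩
    rw [@Subsingleton.elim (↥(Spec (CommRingCat.of K))) inferInstance y (IsLocalRing.closedPoint K)]
    exact hst
  have e := IsOpenImmersion.lift_fac s.1 t.1 hr
  have : IsOpenImmersion.lift s.1 t.1 hr = 𝟙 _ := by
    have e' := congrArg (· ≫ h) e
    simp only [Category.assoc, s.2, t.2, Category.comp_id] at e'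
    exact e'
  rw [this, Category.id_comp] at e
  exact e

variable {S : Scheme.{u}} {X : Sp S}

/-- There are finitely many lifts of a field-valued point over a given lift along a quasi-compact map. -/
theorem finite_liftsOver (p : FieldPt X) {Q E : EtOver X} (f : Q ⟶ E)
    [QuasiCompact f.hom.left.left] (l : (FieldPt.liftsTo p).obj E) :
    Finite {m : (FieldPt.liftsTo p).obj Q // (FieldPt.liftsTo p).map f m = l} := by
  let l' : Spec (CommRingCat.of p.K) ⟶ E.obj.left.left := l.1.left
  haveI := EtOver.etale_left f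
  haveI : Etale (pullback.snd f.hom.left.left l') := MorphismProperty.pullback_snd _ _ ‹_›
  haveI := finite_sections (pullback.snd f.hom.left.left l')
  refine Finite.of_injective
    (β := {s : Spec (CommRingCat.of p.K) ⟶ pullback f.hom.left.left l' // s ≫ pullback.snd _ _ = 𝟙 _})
    (fun m => ⟨pullback.lift m.1.1.left (𝟙 _) (by
      rw [Category.id_comp]
      exact congrArg (fun t => t.1.left) m.2), pullback.lift_snd _ _ _⟩) fun m m' h => ?_
  refine Subtype.ext (Subtype.ext (Over.OverMorphism.ext ?_))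
  have := congrArg (fun s => s.1 ≫ pullback.fst f.hom.left.left l') h
  simpa only [pullback.lift_fst] using this

variable (hX : IsAlgSpace X) (P : GrothendieckTopology.Point.{u} (etTop X))

include hX in
/-- Every point of the small etale topos has the same fibre functor as some geometric point. -/
theorem exists_fiber_iso :
    ∃ p : FieldPt X, p.IsGeometric ∧ Nonempty (P.fiber ≅ FieldPt.liftsTo p) := by
  classical
  obtain ⟨⟨E', x'⟩⟩ := (inferInstance : IsCofiltered P.fiber.Elements).nonempty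
  obtain ⟨E₀, x₀, -, hE₀, -⟩ := exists_affine_element x'
  haveI := hE₀
  obtain ⟨p, m₀, hp, hm₀, hpt₀⟩ := exists_geometric_over E₀.obj.hom (centre P x₀)
  let l₀ : (FieldPt.liftsTo p).obj E₀ := ⟨m₀, hm₀⟩
  refine ⟨p, hp, ?_⟩
  let c₀ : P.fiber.Elements := P.fiber.elementsMk E₀ x₀
  -- the system of lifts over `E₀` through the centres
  let F : Over c₀ ⥤ Type u :=
    { obj := fun o => {m : (FieldPt.liftsTo p).obj o.left.1 //
        (FieldPt.liftsTo p).map o.hom.1 m = l₀ ∧ m.1.left (pt₀ p) = centre P o.left.2}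
      map := fun {o o'} t => ↾fun m => ⟨(FieldPt.liftsTo p).map t.left.1 m.1, by
          rw [← Functor.map_comp_apply, ← CategoryTheory.CategoryOfElements.comp_val, Over.w]
          exact m.2.1, by
          refine Eq.trans ?_ (congrArg (centre P) t.left.2)
          rw [centre_map]
          exact congrArg _ m.2.2⟩
      map_id := fun o => by
        ext m
        simp
      map_comp := fun {o o' o''} t t' => by
        ext m
        simp }
  haveI : ∀ o : Over c₀, Nonempty (F.obj o) := fun o => by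
    have h : o.hom.1.hom.left.left (centre P o.left.2) = l₀.1.left (pt₀ p) := by
      rw [← centre_map, o.hom.2]
      exact hpt₀.symm
    obtain ⟨m, hm, hm'⟩ := exists_lift_map p hp o.hom.1 l₀ _ h
    exact ⟨⟨m, hm, hm'⟩⟩
  haveI : ∀ o : Over c₀, Finite (F.obj o) := fun o => by
    obtain ⟨A, hA, hcA, -⟩ := exists_isAffineOpen_mem_and_subset (X := o.left.1.obj.left.left)
      (U := ⊤) (x := centre P o.left.2) trivial
    let k := openHom o.left.1 A
    haveI : IsAffine (openObj o.left.1 A).obj.left.left := hA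
    haveI : QuasiCompact (k ≫ o.hom.1).hom.left.left := inferInstance
    haveI := finite_liftsOver p (k ≫ o.hom.1) l₀
    have hlift : ∀ m : F.obj o, ∃ m' : (FieldPt.liftsTo p).obj (openObj o.left.1 A),
        (FieldPt.liftsTo p).map k m' = m.1 := fun m => by
      obtain ⟨m', hm', -⟩ := exists_lift_map p hp k m.1 ⟨centre P o.left.2, hcA⟩ (by
        rw [m.2.2]; rfl)
      exact ⟨m', hm'⟩
    choose σ hσ using hlift
    refine Finite.of_injective
      (β := {m : (FieldPt.liftsTo p).obj (openObj o.left.1 A) //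
        (FieldPt.liftsTo p).map (k ≫ o.hom.1) m = l₀})
      (fun m => ⟨σ m, by rw [Functor.map_comp_apply, hσ]; exact m.2.1⟩) fun m m' h => ?_
    refine Subtype.ext ?_
    rw [← hσ m, ← hσ m']
    exact congrArg (fun t => (FieldPt.liftsTo p).map k t.1) h
  obtain ⟨sec, hsec⟩ := nonempty_sections_of_finite_cofiltered_system F
  have hsec' : ∀ {o o' : Over c₀} (t : o ⟶ o'),
      (FieldPt.liftsTo p).map t.left.1 (sec o).1 = (sec o').1 :=
    fun t => congrArg Subtype.val (hsec t)
  -- the comparison on elements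
  have hcone : ∀ e : P.fiber.Elements, ∃ (o : Over c₀), Nonempty (o.left ⟶ e) := fun e => by
    obtain ⟨a, f, g, -⟩ := IsCofilteredOrEmpty.cone_objs c₀ e
    exact ⟨Over.mk f, ⟨g⟩⟩
  choose o ho using hcone
  have wd : ∀ (e : P.fiber.Elements) (o₁ o₂ : Over c₀) (g₁ : o₁.left ⟶ e) (g₂ : o₂.left ⟶ e),
      (FieldPt.liftsTo p).map g₁.1 (sec o₁).1 = (FieldPt.liftsTo p).map g₂.1 (sec o₂).1 := by
    intro e o₁ o₂ g₁ g₂
    obtain ⟨a, s₁, s₂, -⟩ := IsCofilteredOrEmpty.cone_objs o₁ o₂
    obtain ⟨b, t, ht⟩ := IsCofilteredOrEmpty.cone_maps (s₁.left ≫ g₁) (s₂.left ≫ g₂)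
    let o' : Over c₀ := Over.mk (t ≫ a.hom)
    let t' : o' ⟶ a := Over.homMk t rfl
    rw [← hsec' (t' ≫ s₁), ← hsec' (t' ≫ s₂), ← Functor.map_comp_apply, ← Functor.map_comp_apply]
    refine congrArg (fun m => (FieldPt.liftsTo p).map m (sec o').1) ?_
    simpa [t'] using congrArg Subtype.val ht
  let φ : ∀ (E : EtOver X), P.fiber.obj E → (FieldPt.liftsTo p).obj E := fun E x =>
    (FieldPt.liftsTo p).map (ho (P.fiber.elementsMk E x)).some.1 (sec (o (P.fiber.elementsMk E x))).1
  have hφ : ∀ (e : P.fiber.Elements) (o' : Over c₀) (g : o'.left ⟶ e),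
      φ e.1 e.2 = (FieldPt.liftsTo p).map g.1 (sec o').1 := fun e o' g => wd e _ _ _ g
  have φnat : ∀ {E E' : EtOver X} (f : E ⟶ E') (x : P.fiber.obj E),
      φ E' (P.fiber.map f x) = (FieldPt.liftsTo p).map f (φ E x) := fun {E E'} f x => by
    let g := (ho (P.fiber.elementsMk E x)).some
    rw [hφ (P.fiber.elementsMk E' (P.fiber.map f x)) _
      (g ≫ CategoryOfElements.homMk (P.fiber.elementsMk E x) _ f rfl)]
    exact Functor.map_comp_apply _ _ _ _
  have φcentre : ∀ (E : EtOver X) (x : P.fiber.obj E), (φ E x).1.left (pt₀ p) = centre P x := by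
    intro E x
    let g := (ho (P.fiber.elementsMk E x)).some
    calc (φ E x).1.left (pt₀ p)
        = g.1.hom.left.left ((sec (o (P.fiber.elementsMk E x))).1.1.left (pt₀ p)) := rfl
      _ = g.1.hom.left.left (centre P (o (P.fiber.elementsMk E x)).left.2) := by
        rw [(sec (o (P.fiber.elementsMk E x))).2.2]
      _ = centre P x := by
        rw [← centre_map, g.2]
  have φ₀ : φ E₀ x₀ = l₀ := by
    rw [hφ c₀ (Over.mk (𝟙 c₀)) (𝟙 c₀)]
    exact (sec (Over.mk (𝟙 c₀))).2.1
  have inj : ∀ E, Function.Injective (φ E) := by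
    intro E x x' h
    obtain ⟨⟨Z, z⟩, g, g', -⟩ := IsCofilteredOrEmpty.cone_objs (P.fiber.elementsMk E x) (P.fiber.elementsMk E x')
    have hg : P.fiber.map g.1 z = x := g.2
    have hg' : P.fiber.map g'.1 z = x' := g'.2
    rw [← hg, ← hg'] at h ⊢
    rw [φnat, φnat] at h
    -- the equaliser of the two maps
    let hP := EtOver.prodIsLimit E E
    let a : Z ⟶ EtOver.prodObj E E := hP.lift (BinaryFan.mk g.1 g'.1)
    let d : E ⟶ EtOver.prodObj E E := hP.lift (BinaryFan.mk (𝟙 E) (𝟙 E))
    have af : a ≫ EtOver.prodFst _ _ = g.1 := hP.fac _ ⟨.left⟩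
    have ag : a ≫ EtOver.prodSnd _ _ = g'.1 := hP.fac _ ⟨.right⟩
    have df : d ≫ EtOver.prodFst _ _ = 𝟙 _ := hP.fac _ ⟨.left⟩
    have dg : d ≫ EtOver.prodSnd _ _ = 𝟙 _ := hP.fac _ ⟨.right⟩
    have hd : (FieldPt.liftsTo p).map a (φ Z z) =
        (FieldPt.liftsTo p).map d ((FieldPt.liftsTo p).map g.1 (φ Z z)) := by
      refine Subtype.ext (Functor.relativelyRepresentable.hom_ext' _ ?_ ?_)
      · change ((φ Z z).1 ≫ a.hom.left) ≫ (EtOver.prodSnd E E).hom.left =
          (((φ Z z).1 ≫ g.1.hom.left) ≫ d.hom.left) ≫ (EtOver.prodSnd E E).hom.left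
        rw [Category.assoc, Category.assoc]
        change ((FieldPt.liftsTo p).map (a ≫ EtOver.prodSnd _ _) (φ Z z)).1 =
          ((FieldPt.liftsTo p).map (d ≫ EtOver.prodSnd _ _) ((FieldPt.liftsTo p).map g.1 (φ Z z))).1
        rw [ag, dg, Functor.map_id_apply, h]
      · change ((φ Z z).1 ≫ a.hom.left) ≫ (EtOver.prodFst E E).hom.left =
          (((φ Z z).1 ≫ g.1.hom.left) ≫ d.hom.left) ≫ (EtOver.prodFst E E).hom.left
        rw [Category.assoc, Category.assoc]
        change ((FieldPt.liftsTo p).map (a ≫ EtOver.prodFst _ _) (φ Z z)).1 =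
          ((FieldPt.liftsTo p).map (d ≫ EtOver.prodFst _ _) ((FieldPt.liftsTo p).map g.1 (φ Z z))).1
        rw [af, df, Functor.map_id_apply]
    obtain ⟨l, hl, -⟩ := exists_lift_pullback p a d _ _ hd
    obtain ⟨w, hw⟩ := exists_lift_of_centre_mem (EtOver.pullbackFst a d) z
      ⟨l.1.left (pt₀ p), by rw [← φcentre, ← hl]; rfl⟩
    refine (congrArg _ hw.symm).trans (Eq.trans ?_ (congrArg _ hw))
    rw [← Functor.map_comp_apply, ← Functor.map_comp_apply]
    refine congrArg (fun m => P.fiber.map m w) ?_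
    rw [← af, ← ag, ← Category.assoc, ← Category.assoc, EtOver.pullback_condition,
      Category.assoc, Category.assoc, df, dg]
  have surj : ∀ E, Function.Surjective (φ E) := by
    intro E l
    obtain ⟨w₀, hw₁, hw₂⟩ := exists_lift_prod p l₀ l
    -- an affine neighbourhood of the lift
    obtain ⟨A, hA, hwA, -⟩ := exists_isAffineOpen_mem_and_subset
      (X := (EtOver.prodObj E₀ E).obj.left.left) (U := ⊤) (x := w₀.1.left (pt₀ p)) trivial
    let Q := openObj (EtOver.prodObj E₀ E) A
    obtain ⟨w, hw, -⟩ := exists_lift_map p hp (openHom (EtOver.prodObj E₀ E) A) w₀ ⟨_, hwA⟩ rfl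
    let f : Q ⟶ E₀ := openHom _ A ≫ EtOver.prodFst E₀ E
    have hfw : (FieldPt.liftsTo p).map f w = l₀ := by rw [Functor.map_comp_apply, hw, hw₁]
    suffices hq : ∃ q : P.fiber.obj Q, φ Q q = w by
      obtain ⟨q, hq⟩ := hq
      refine ⟨P.fiber.map (openHom _ A ≫ EtOver.prodSnd E₀ E) q, ?_⟩
      rw [φnat, hq, Functor.map_comp_apply, hw, hw₂]
    haveI : IsAffine Q.obj.left.left := hA
    haveI : QuasiCompact f.hom.left.left := inferInstance
    haveI : IsSeparated f.hom.left.left := inferInstance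
    haveI := finite_liftsOver p f l₀
    let M : Set (P.fiber.obj Q) := {q | P.fiber.map f q = x₀}
    have hM : M.Finite := by
      refine Set.finite_coe_iff.1 (Finite.of_injective
        (β := {m : (FieldPt.liftsTo p).obj Q // (FieldPt.liftsTo p).map f m = l₀})
        (fun q : M => ⟨φ Q q.1, by rw [← φnat, show P.fiber.map f q.1 = x₀ from q.2, φ₀]⟩) ?_)
      exact fun q q' h => Subtype.ext (inj Q (congrArg Subtype.val h))
    have key : ∀ s : Set (P.fiber.obj Q), s.Finite → s ⊆ M → ∃ (Z : EtOver X) (z : P.fiber.obj Z)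
        (g : Z ⟶ E₀), P.fiber.map g z = x₀ ∧ ∀ q ∈ s, ∃ t : Z ⟶ Q, t ≫ f = g ∧ P.fiber.map t z = q := by
      intro s hs
      refine Set.Finite.induction_on _ hs (fun _ => ⟨E₀, x₀, 𝟙 _, by simp, by simp⟩) ?_
      intro q s _ _ ih hsub
      obtain ⟨Z, z, g, hg, ht⟩ := ih fun y hy => hsub (Set.mem_insert_of_mem _ hy)
      obtain ⟨⟨Z', z'⟩, a, b, -⟩ := IsCofilteredOrEmpty.cone_objs (P.fiber.elementsMk Z z) (P.fiber.elementsMk Q q)
      have ha : P.fiber.map a.1 z' = z := a.2
      have hb : P.fiber.map b.1 z' = q := b.2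
      let u : P.fiber.elementsMk Z' z' ⟶ c₀ := CategoryOfElements.homMk _ _ (a.1 ≫ g) (by
        rw [Functor.map_comp_apply, ha]; exact hg)
      let v : P.fiber.elementsMk Z' z' ⟶ c₀ := CategoryOfElements.homMk _ _ (b.1 ≫ f) (by
        rw [Functor.map_comp_apply, hb]; exact hsub (Set.mem_insert _ _))
      obtain ⟨⟨Z'', z''⟩, e, he⟩ := IsCofilteredOrEmpty.cone_maps u v
      have he' : P.fiber.map e.1 z'' = z' := e.2
      have he'' : e.1 ≫ a.1 ≫ g = e.1 ≫ b.1 ≫ f := congrArg Subtype.val he
      refine ⟨Z'', z'', e.1 ≫ a.1 ≫ g, ?_, ?_⟩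
      · rw [Functor.map_comp_apply, Functor.map_comp_apply, he', ha, hg]
      · rintro y (rfl | hy)
        · exact ⟨e.1 ≫ b.1, by rw [Category.assoc, he''],
            by rw [Functor.map_comp_apply, he', hb]⟩
        · obtain ⟨t, htf, htz⟩ := ht y hy
          exact ⟨e.1 ≫ a.1 ≫ t, by rw [Category.assoc, Category.assoc, htf],
            by rw [Functor.map_comp_apply, Functor.map_comp_apply, he', ha, htz]⟩
    obtain ⟨Z, z, g, hg, ht⟩ := key M hM le_rfl
    choose t htf htz using ht
    by_contra hno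
    have hgz : (FieldPt.liftsTo p).map g (φ Z z) = (FieldPt.liftsTo p).map f w := by
      rw [← φnat, hg, φ₀, hfw]
    obtain ⟨wZ, hwZ₁, hwZ₂⟩ := exists_lift_pullback p g f _ _ hgz
    let RQ := EtOver.pullbackObj g f
    haveI : Finite M := hM.to_subtype
    have hlim := EtOver.pullbackIsLimit g f
    let σ : M → (Z ⟶ RQ) := fun q => hlim.lift
      (PullbackCone.mk (𝟙 Z) (t q.1 q.2) (by rw [Category.id_comp, htf]))
    have hσ₁ : ∀ q, σ q ≫ EtOver.pullbackFst g f = 𝟙 Z := fun q => hlim.fac _ WalkingCospan.left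
    have hσ₂ : ∀ q, σ q ≫ EtOver.pullbackSnd g f = t q.1 q.2 := fun q => hlim.fac _ WalkingCospan.right
    haveI : IsSeparated (EtOver.pullbackFst g f).hom.left.left :=
      MorphismProperty.of_isPullback (P := @IsSeparated)
        ((IsPullback.of_hasPullback g.hom.left f.hom.left).map (Over.forget S)).flip (inferInstanceAs (IsSeparated f.hom.left.left))
    have hcl : ∀ q, IsClosed (Set.range (σ q).hom.left.left) := fun q => by
      have h1 : (σ q).hom.left.left ≫ (EtOver.pullbackFst g f).hom.left.left = 𝟙 _ :=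
        congrArg (fun m : Z ⟶ Z => m.hom.left.left) (hσ₁ q)
      haveI : IsClosedImmersion ((σ q).hom.left.left ≫ (EtOver.pullbackFst g f).hom.left.left) := by
        rw [h1]; infer_instance
      haveI := IsClosedImmersion.of_comp (σ q).hom.left.left (EtOver.pullbackFst g f).hom.left.left
      exact (σ q).hom.left.left.isClosedEmbedding.isClosed_range
    let O : RQ.obj.left.left.Opens :=
      ⟨(⋃ q, Set.range (σ q).hom.left.left)ᶜ, (isClosed_iUnion_of_finite hcl).isOpen_compl⟩
    have hwO : wZ.1.left (pt₀ p) ∈ O := by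
      intro hmem
      obtain ⟨q, y, hy⟩ := Set.mem_iUnion.1 hmem
      obtain ⟨m, hm, -⟩ := exists_lift_map p hp (σ q) wZ y hy
      refine hno ⟨q.1, ?_⟩
      have hm' : m = φ Z z := by
        rw [← hwZ₁, ← hm, ← Functor.map_comp_apply, hσ₁, Functor.map_id_apply]
      rw [← hwZ₂, ← hm, ← Functor.map_comp_apply, hσ₂, hm', ← φnat, htz]
    obtain ⟨y, hy⟩ := exists_lift_of_centre_mem (openHom RQ O ≫ EtOver.pullbackFst g f) z
      ⟨⟨wZ.1.left (pt₀ p), hwO⟩, by rw [← φcentre, ← hwZ₁]; rfl⟩
    let y' := P.fiber.map (openHom RQ O) y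
    let q := P.fiber.map (EtOver.pullbackSnd g f) y'
    have hy' : P.fiber.map (EtOver.pullbackFst g f) y' = z := by
      rw [← hy, Functor.map_comp_apply]
    have hqM : q ∈ M := by
      show P.fiber.map f q = x₀
      rw [← Functor.map_comp_apply, ← EtOver.pullback_condition, Functor.map_comp_apply, hy', hg]
    have heq : P.fiber.map (σ ⟨q, hqM⟩) z = y' := by
      refine inj _ (Subtype.ext (pullback.hom_ext ?_ ?_))
      · change ((FieldPt.liftsTo p).map (EtOver.pullbackFst g f) (φ _ _)).1 =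
          ((FieldPt.liftsTo p).map (EtOver.pullbackFst g f) (φ _ _)).1
        rw [← φnat, ← φnat, ← Functor.map_comp_apply, hσ₁, Functor.map_id_apply, hy']
      · change ((FieldPt.liftsTo p).map (EtOver.pullbackSnd g f) (φ _ _)).1 =
          ((FieldPt.liftsTo p).map (EtOver.pullbackSnd g f) (φ _ _)).1
        rw [← φnat, ← φnat, ← Functor.map_comp_apply, hσ₂, htz]
    have hc : centre P y' ∈ O := by
      rw [centre_map]
      exact (range_openHom RQ O).subset ⟨_, rfl⟩
    refine hc (Set.mem_iUnion.2 ⟨⟨q, hqM⟩, ?_⟩)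
    rw [← heq, centre_map]
    exact ⟨_, rfl⟩
  exact ⟨NatIso.ofComponents (fun E => (Equiv.ofBijective (φ E) ⟨inj E, surj E⟩).toIso) fun f => by
    ext x; exact φnat f x⟩

end Groth.Agent.Lib.AlgSpTopos
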